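/-
The closed subscheme of the Grassmannian of an algebra where the submodule is an ideal.
-/
import Groth.Agent.H19Grp.PiClosed
import Mathlib

set_option autoImplicit false
set_option backward.isDefEq.respectTransparency false
set_option backward.isDefEq.respectTransparency.types false

universe u

open CategoryTheory CategoryTheory.Limits AlgebraicGeometry TensorProduct

namespace Groth.Agent.H27HilbGrass

section alg

variable {R B A C : Type u} [CommRing R] [CommRing B] [Algebra R B] [CommRing A] [Algebra R A]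
  [CommRing C] [Algebra R C] {e : ℕ}

/-- `U` is stable under multiplication by `B`. -/
def IsStable (U : Submodule A (A ⊗[R] B)) : Prop :=
  ∀ (b : B) (x : A ⊗[R] B), x ∈ U → ((1 : A) ⊗ₜ[R] b) * x ∈ U

/-- The obstruction ideal of stability. -/
def stabIdeal (N : Module.Grassmannian A (A ⊗[R] B) e) : Ideal A :=
  Ideal.span {a | ∃ (b : B) (x : A ⊗[R] B) (l : ((A ⊗[R] B) ⧸ N.toSubmodule) →ₗ[A] A),
    x ∈ N.toSubmodule ∧ a = l (Submodule.Quotient.mk (((1 : A) ⊗ₜ[R] b) * x))}

/-- Universality of the obstruction ideal. -/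
theorem isStable_map_iff (φ : A →ₐ[R] C) (N : Module.Grassmannian A (A ⊗[R] B) e) :
    IsStable (Module.Grassmannian.map φ N).toSubmodule ↔ stabIdeal N ≤ RingHom.ker φ.toRingHom := by
  letI : Algebra A C := φ.toRingHom.toAlgebra
  haveI : IsScalarTower R A C :=
    IsScalarTower.of_algebraMap_eq fun r => (φ.commutes r).symm
  let U := N.toSubmodule
  let e₁ := TensorProduct.AlgebraTensorModule.cancelBaseChange R A C C B
  let F : (C ⊗[R] B) →ₗ[C] C ⊗[A] ((A ⊗[R] B) ⧸ U) := U.mkQ.baseChange C ∘ₗ e₁.symm.toLinearMap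
  have hU : (Module.Grassmannian.map φ N).toSubmodule = LinearMap.ker F := rfl
  have hF : ∀ (c : C) (z : A ⊗[R] B), F (e₁ (c ⊗ₜ z)) = c ⊗ₜ Submodule.Quotient.mk z := by
    intro c z
    simp [F]
  have hmul : ∀ (b : B) (c : C) (z : A ⊗[R] B),
      ((1 : C) ⊗ₜ[R] b) * e₁ (c ⊗ₜ z) = e₁ (c ⊗ₜ (((1 : A) ⊗ₜ[R] b) * z)) := by
    intro b c z
    induction z using TensorProduct.induction_on with
    | zero => simp
    | tmul a y => simp [e₁]
    | add u v hu hv => simp only [tmul_add, map_add, mul_add, hu, hv]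
  constructor
  · intro h
    rw [stabIdeal, Ideal.span_le]
    rintro _ ⟨b, x, l, hx, rfl⟩
    have h1 : e₁ ((1 : C) ⊗ₜ x) ∈ (Module.Grassmannian.map φ N).toSubmodule := by
      rw [hU, LinearMap.mem_ker, hF, (Submodule.Quotient.mk_eq_zero U).mpr hx, tmul_zero]
    have h2 := h b _ h1
    rw [hU, LinearMap.mem_ker, hmul, hF] at h2
    have h3 := congrArg (TensorProduct.AlgebraTensorModule.rid A C C ∘ l.baseChange C) h2
    simp only [Function.comp_apply, LinearMap.baseChange_tmul,
      AlgebraTensorModule.rid_tmul, map_zero] at h3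
    rw [SetLike.mem_coe, RingHom.mem_ker]
    rw [Algebra.smul_def, mul_one] at h3
    exact h3
  · intro h b z hz
    rw [hU, LinearMap.mem_ker] at hz ⊢
    obtain ⟨w, rfl⟩ := e₁.surjective z
    have hw : (U.mkQ.baseChange C) w = 0 := by simpa [F] using hz
    obtain ⟨t, rfl⟩ := (lTensor_exact C (LinearMap.exact_subtype_mkQ U) (Submodule.mkQ_surjective U) w).mp hw
    obtain ⟨n, r, hr⟩ := Module.Finite.exists_fin' A ((A ⊗[R] B) ⧸ U)
    obtain ⟨s, hs⟩ := Module.projective_lifting_property r LinearMap.id hr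
    clear hz hw
    induction t using TensorProduct.induction_on with
    | zero => simp
    | tmul c x =>
      rw [LinearMap.lTensor_tmul, Submodule.subtype_apply, hmul, hF, ← show r (s _) = Submodule.Quotient.mk
        (((1 : A) ⊗ₜ[R] b) * (x : A ⊗[R] B)) from congr($hs (Submodule.Quotient.mk _)),
        pi_eq_sum_univ' (s _), map_sum, tmul_sum]
      refine Finset.sum_eq_zero fun i _ => ?_
      rw [map_smul, ← smul_tmul]
      have h0 : φ (s (Submodule.Quotient.mk (((1 : A) ⊗ₜ[R] b) * (x : A ⊗[R] B))) i) = 0 :=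
        RingHom.mem_ker.mp (h (Ideal.subset_span ⟨b, x, (LinearMap.proj i).comp s, x.2, rfl⟩))
      rw [Algebra.smul_def]
      show (φ _ * c) ⊗ₜ[A] _ = 0
      rw [h0, zero_mul, zero_tmul]
    | add u v hu hv =>
      rw [map_add, map_add, mul_add, map_add, hu, hv, add_zero]

end alg

section scheme

variable {R B : Type u} [CommRing R] [CommRing B] [Algebra R B] {e : ℕ}
  {X : Over (Spec (CommRingCat.of R))}
  (eX : ∀ A : CommAlgCat.{u} R,
      ((Over.mk (Spec.map (CommRingCat.ofHom (algebraMap R A)))) ⟶ X) ≃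
        (Module.Grassmannian.functor (R := R) (M := B) e).obj A)
  (heX : ∀ (A C : CommAlgCat.{u} R) (φ : A ⟶ C)
      (g : Over.mk (Spec.map (CommRingCat.ofHom (algebraMap R A))) ⟶ X)
      (g' : Over.mk (Spec.map (CommRingCat.ofHom (algebraMap R C))) ⟶ X),
      g'.left = Spec.map (CommRingCat.ofHom φ.hom.toRingHom) ≫ g.left →
        eX C g' = (Module.Grassmannian.functor (R := R) (M := B) e).map φ (eX A g))

include heX in
lemma stable_iff {A C : CommAlgCat.{u} R} (φ : A ⟶ C)
    (g : Over.mk (Spec.map (CommRingCat.ofHom (algebraMap R A))) ⟶ X)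
    (g' : Over.mk (Spec.map (CommRingCat.ofHom (algebraMap R C))) ⟶ X)
    (h : g'.left = Spec.map (CommRingCat.ofHom φ.hom.toRingHom) ≫ g.left) :
    IsStable (eX C g').toSubmodule ↔ stabIdeal (eX A g) ≤ RingHom.ker φ.hom.toRingHom := by
  rw [heX A C φ g g' h]
  exact isStable_map_iff φ.hom (eX A g)

/-- The algebra structure on sections over an affine open of `X`. -/
noncomputable abbrev algW (W : X.left.affineOpens) : Algebra R Γ(X.left, W.1) :=
  (Spec.preimage (W.2.fromSpec ≫ X.hom)).hom.toAlgebra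

/-- Sections over an affine open of `X` as an algebra. -/
noncomputable def AW (W : X.left.affineOpens) : CommAlgCat.{u} R :=
  letI := algW W
  CommAlgCat.of R Γ(X.left, W.1)

/-- The tautological point of an affine open. -/
noncomputable def gW (W : X.left.affineOpens) :
    Over.mk (Spec.map (CommRingCat.ofHom (algebraMap R (AW W)))) ⟶ X :=
  Over.homMk W.2.fromSpec (Spec.map_preimage _).symm

/-- The obstruction ideal sheaf. -/
noncomputable def stabSheaf
    (heX : ∀ (A C : CommAlgCat.{u} R) (φ : A ⟶ C)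
      (g : Over.mk (Spec.map (CommRingCat.ofHom (algebraMap R A))) ⟶ X)
      (g' : Over.mk (Spec.map (CommRingCat.ofHom (algebraMap R C))) ⟶ X),
      g'.left = Spec.map (CommRingCat.ofHom φ.hom.toRingHom) ≫ g.left →
        eX C g' = (Module.Grassmannian.functor (R := R) (M := B) e).map φ (eX A g)) :
    X.left.IdealSheafData where
  ideal W := stabIdeal (A := (AW W : Type u)) (eX (AW W) (gW W))
  map_ideal_basicOpen W r := by
    let W' := X.left.affineBasicOpen r
    let res := X.left.presheaf.map (homOfLE (X.left.basicOpen_le r)).op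
    have hres : Spec.map res ≫ W.2.fromSpec = W'.2.fromSpec :=
      W.2.map_fromSpec W'.2 (homOfLE (X.left.basicOpen_le r)).op
    letI := algW W
    letI := algW W'
    have hcomm : Spec.preimage (W.2.fromSpec ≫ X.hom) ≫ res = Spec.preimage (W'.2.fromSpec ≫ X.hom) :=
      Spec.map_injective (by rw [Spec.map_comp, Spec.map_preimage, Spec.map_preimage, reassoc_of% hres])
    let χ : Γ(X.left, W.1) →ₐ[R] Γ(X.left, W'.1) :=
      { res.hom with commutes' := fun c => congr($(hcomm).hom c) }
    have key : ∀ J : Ideal Γ(X.left, W'.1),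
        (stabIdeal (eX (AW W) (gW W))).map res.hom ≤ J ↔ stabIdeal (eX (AW W') (gW W')) ≤ J := by
      intro J
      let C : CommAlgCat.{u} R := CommAlgCat.of R (Γ(X.left, W'.1) ⧸ J)
      let q : AW W' ⟶ C := CommAlgCat.ofHom (Ideal.Quotient.mkₐ R J)
      let χ' : AW W ⟶ C := CommAlgCat.ofHom ((Ideal.Quotient.mkₐ R J).comp χ)
      have hq : CommRingCat.ofHom (algebraMap R (AW W')) ≫ CommRingCat.ofHom q.hom.toRingHom =
          CommRingCat.ofHom (algebraMap R C) := CommRingCat.hom_ext (RingHom.ext q.hom.commutes)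
      let gC : Over.mk (Spec.map (CommRingCat.ofHom (algebraMap R C))) ⟶ X :=
        Over.homMk (Spec.map (CommRingCat.ofHom q.hom.toRingHom) ≫ (gW W').left) (by
          show (_ ≫ _) ≫ X.hom = _
          rw [Category.assoc]
          refine (congrArg (fun t => _ ≫ t) (Over.w (gW W'))).trans ?_
          show Spec.map _ ≫ Spec.map _ = Spec.map _
          rw [← Spec.map_comp, hq])
      have h1 := stable_iff eX heX q (gW W') gC rfl
      have h2 := stable_iff eX heX χ' (gW W) gC (by
        show Spec.map (CommRingCat.ofHom q.hom.toRingHom) ≫ W'.2.fromSpec =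
          Spec.map (CommRingCat.ofHom χ'.hom.toRingHom) ≫ W.2.fromSpec
        rw [← hres, ← Spec.map_comp_assoc]
        rfl)
      have hk : RingHom.ker q.hom.toRingHom = J := Ideal.mk_ker
      rw [hk] at h1
      rw [Ideal.map_le_iff_le_comap, ← h1, h2]
      have : RingHom.ker χ'.hom.toRingHom = J.comap res.hom := by
        conv_rhs => rw [← Ideal.mk_ker (I := J)]
        rfl
      rw [this]
    exact le_antisymm ((key _).mpr le_rfl) ((key _).mp le_rfl)

/-- The closed subscheme represents stability. -/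
theorem factors_iff_stable (A : CommAlgCat.{u} R)
    (g : Over.mk (Spec.map (CommRingCat.ofHom (algebraMap R A))) ⟶ X) :
    (∃ h, h ≫ (stabSheaf eX heX).subschemeι = g.left) ↔ IsStable (eX A g).toSubmodule := by
  rw [stable_iff eX heX (𝟙 A) g g (by simp)]
  have hker : RingHom.ker ((𝟙 A : A ⟶ A)).hom.toRingHom = (⊥ : Ideal A) := by
    ext x
    rw [RingHom.mem_ker, Ideal.mem_bot]
    rfl
  rw [hker]
  let T : Scheme.{u} := Spec (CommRingCat.of A)
  have main : ∀ (W : X.left.affineOpens) (V : T.affineOpens) (hVW : V.1 ≤ g.left ⁻¹ᵁ W.1),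
      (stabSheaf eX heX).ideal W ≤ RingHom.ker (g.left.appLE W.1 V.1 hVW).hom ↔
        stabIdeal (eX A g) ≤ RingHom.ker
          ((Scheme.ΓSpecIso (CommRingCat.of A)).inv ≫ T.presheaf.map (homOfLE le_top).op :
            CommRingCat.of A ⟶ Γ(T, V.1)).hom := by
    intro W V hVW
    let φ : CommRingCat.of A ⟶ Γ(T, V.1) :=
      (Scheme.ΓSpecIso (CommRingCat.of A)).inv ≫ T.presheaf.map (homOfLE le_top).op
    have hφ : Spec.map φ = V.2.fromSpec := by
      rw [Spec.map_comp, ← Scheme.isoSpec_Spec_inv, ← IsAffineOpen.fromSpec_top]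
      exact (isAffineOpen_top T).map_fromSpec V.2 _
    letI : Algebra R Γ(T, V.1) := (φ.hom.comp (algebraMap R A)).toAlgebra
    letI := algW W
    let C : CommAlgCat.{u} R := CommAlgCat.of R Γ(T, V.1)
    let φ' : A ⟶ C := CommAlgCat.ofHom { φ.hom with commutes' := fun c => rfl }
    have hgC : (V.2.fromSpec ≫ g.left) ≫ X.hom = Spec.map (CommRingCat.ofHom (algebraMap R C)) := by
      rw [Category.assoc, Over.w g, ← hφ]
      show Spec.map φ ≫ Spec.map _ = Spec.map _
      rw [← Spec.map_comp]
      rfl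
    let gC : Over.mk (Spec.map (CommRingCat.ofHom (algebraMap R C))) ⟶ X :=
      Over.homMk (V.2.fromSpec ≫ g.left) hgC
    have hψ : Spec.map (g.left.appLE W.1 V.1 hVW) ≫ W.2.fromSpec = V.2.fromSpec ≫ g.left :=
      W.2.SpecMap_appLE_fromSpec g.left V.2 hVW
    have hcomm : Spec.preimage (W.2.fromSpec ≫ X.hom) ≫ g.left.appLE W.1 V.1 hVW =
        CommRingCat.ofHom (algebraMap R C) := Spec.map_injective (by
      rw [Spec.map_comp, Spec.map_preimage, reassoc_of% hψ, ← Category.assoc, hgC])
    let ψ : AW W ⟶ C :=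
      CommAlgCat.ofHom { (g.left.appLE W.1 V.1 hVW).hom with commutes' := fun c => congr($(hcomm).hom c) }
    have h1 := stable_iff eX heX ψ (gW W) gC hψ.symm
    have h2 := stable_iff eX heX φ' g gC (by
      show V.2.fromSpec ≫ g.left = Spec.map φ ≫ g.left
      rw [hφ])
    exact h1.symm.trans h2
  constructor
  · rintro ⟨h, hh⟩ a ha
    have hle : stabSheaf eX heX ≤ g.left.ker := by
      rw [← hh]
      exact le_of_eq_of_le (stabSheaf eX heX).ker_subschemeι.symm (Scheme.Hom.le_ker_comp _ _)
    rw [Ideal.mem_bot]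
    apply (ConcreteCategory.bijective_of_isIso (Scheme.ΓSpecIso (CommRingCat.of A)).inv).injective
    rw [map_zero]
    refine T.IsSheaf.section_ext fun x _ => ?_
    obtain ⟨W, hW, hxW, -⟩ :=
      exists_isAffineOpen_mem_and_subset (x := g.left x) (U := (⊤ : X.left.Opens)) trivial
    obtain ⟨V, hV, hxV, hVW⟩ :=
      exists_isAffineOpen_mem_and_subset (x := x) (U := g.left ⁻¹ᵁ W) hxW
    refine ⟨V, le_top, hxV, ?_⟩
    rw [map_zero]
    have hWV : (stabSheaf eX heX).ideal ⟨W, hW⟩ ≤ RingHom.ker (g.left.appLE W V hVW).hom := by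
      intro y hy
      have := g.left.ideal_ker_le ⟨W, hW⟩ (hle ⟨W, hW⟩ hy)
      rw [RingHom.mem_ker] at this ⊢
      rw [Scheme.Hom.appLE, CommRingCat.hom_comp, RingHom.comp_apply, this, map_zero]
    exact RingHom.mem_ker.mp ((main ⟨W, hW⟩ ⟨V, hV⟩ hVW).mp hWV ha)
  · intro h
    refine ⟨IsClosedImmersion.lift (stabSheaf eX heX).subschemeι g.left ?_,
      IsClosedImmersion.lift_fac _ _ _⟩
    rw [Scheme.IdealSheafData.ker_subschemeι]
    exact H19Grp.le_ker_of_forall_appLE _ _ fun W V hVW =>
      (main W V hVW).mpr (h.trans bot_le)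

end scheme

end Groth.Agent.H27HilbGrass
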